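import Groth.Agent.Godement.Stalk

/-! # Germs of the Godement sheaves as germs of families -/

set_option autoImplicit false
set_option linter.style.haveILetI false

noncomputable section

universe u

open CategoryTheory CategoryTheory.Limits TopologicalSpace Opposite
open scoped Topology

namespace Groth.Agent.Godement

variable {X Y : TopCat.{u}}

/-- germs of families of stalk elements -/
def germFam (F : CohTop.Ab X) (x : X) : (G0 F).obj.obj (op ⊤) →+ CohTop.stalk (G0 F) x :=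
  germ (G0 F) ⊤ x trivial

lemma germFam_surjective (F : CohTop.Ab X) (x : X) : Function.Surjective (germFam F x) := fun t => by
  obtain ⟨U, hU, s, rfl⟩ := exists_germ_eq (G0 F) t
  obtain ⟨r, hr⟩ := (AddCommGrpCat.epi_iff_surjective _).1
    (TopCat.Presheaf.IsFlasque.epi (F := (G0 F).obj) (homOfLE (le_top : U ≤ ⊤)).op) s
  exact ⟨r, (germ_res (G0 F) le_top x hU r).symm.trans (congrArg (germ (G0 F) U x hU) hr)⟩

lemma germFam_eq_zero_iff (F : CohTop.Ab X) (x : X) (f : (G0 F).obj.obj (op ⊤)) :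
    germFam F x f = 0 ↔ ∀ᶠ z in 𝓝 x, f ⟨z, trivial⟩ = 0 := by
  constructor
  · intro h
    obtain ⟨W, hW, hle, e⟩ := exists_res_eq_zero _ h
    exact Filter.eventually_of_mem (W.2.mem_nhds hW) fun z hz => congrFun e ⟨z, hz⟩
  · intro h
    obtain ⟨W, hW, hWo, hx⟩ := eventually_nhds_iff.1 h
    let W' : Opens X := ⟨W, hWo⟩
    refine (germ_res (G0 F) (le_top : W' ≤ ⊤) x hx f).symm.trans ?_
    rw [show (G0 F).obj.map (homOfLE (le_top : W' ≤ ⊤)).op f = 0 from funext fun z => hW z.1 z.2, map_zero]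

lemma stalk_G0map_germFam {g : Y ⟶ X} {F : CohTop.Ab X} {F' : CohTop.Ab Y} (φ : Coh g F F') (y : Y)
    (f : (G0 F).obj.obj (op ⊤)) :
    (G0map φ).stalk y (germFam F (g y) f) = germFam F' y ((G0map φ).app ⊤ f) :=
  (G0map φ).stalk_germ ⊤ y trivial f

/-- the map on stalks of a morphism of sheaves -/
def stalkMap {F G : CohTop.Ab X} (m : F ⟶ G) (x : X) : CohTop.stalk F x →+ CohTop.stalk G x :=
  ((TopCat.Presheaf.stalkFunctor AddCommGrpCat.{u} x).map m.hom).hom

lemma stalkMap_germ {F G : CohTop.Ab X} (m : F ⟶ G) (U : Opens X) (x : X) (hx : x ∈ U) (s : F.obj.obj (op U)) :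
    stalkMap m x (germ F U x hx s) = germ G U x hx (m.hom.app (op U) s) :=
  TopCat.Presheaf.stalkFunctor_map_germ_apply U x hx m.hom s

lemma stalk_η {g : Y ⟶ X} {F : CohTop.Ab X} {F' : CohTop.Ab Y} (φ : Coh g F F') (y : Y) (t : CohTop.stalk F (g y)) :
    (G0map φ).stalk y (stalkMap (η F) (g y) t) = stalkMap (η F') y (φ.stalk y t) := by
  obtain ⟨U, hU, s, rfl⟩ := exists_germ_eq F t
  rw [stalkMap_germ, Coh.stalk_germ _ U y hU, Coh.stalk_germ φ U y hU, stalkMap_germ]
  exact congrArg (germ (G0 F') _ y _) (ConcreteCategory.congr_hom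
    (congrArg (fun m : F ⟶ (CohTop.push g).obj (G0 F') => m.hom.app (op U)) (η_G0map φ)) s)

lemma stalk_π {g : Y ⟶ X} {F : CohTop.Ab X} {F' : CohTop.Ab Y} (φ : Coh g F F') (y : Y)
    (t : CohTop.stalk (G0 F) (g y)) :
    (Qmap φ).stalk y (stalkMap (π F) (g y) t) = stalkMap (π F') y ((G0map φ).stalk y t) := by
  obtain ⟨U, hU, s, rfl⟩ := exists_germ_eq (G0 F) t
  rw [stalkMap_germ, Coh.stalk_germ _ U y hU, π_Qmap_app, Coh.stalk_germ (G0map φ) U y hU, stalkMap_germ]

lemma stalkMap_η_injective (F : CohTop.Ab X) (x : X) : Function.Injective (stalkMap (η F) x) :=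
  TopCat.Presheaf.stalkFunctor_map_injective_of_app_injective (fun U => η_app_injective F U) x

lemma stalkMap_π_surjective (F : CohTop.Ab X) (x : X) : Function.Surjective (stalkMap (π F) x) := fun t => by
  obtain ⟨U, hU, s, rfl⟩ := exists_π_germ F t
  exact ⟨_, stalkMap_germ _ U x hU s⟩

lemma stalkMap_π_η (F : CohTop.Ab X) (x : X) (t : CohTop.stalk F x) : stalkMap (π F) x (stalkMap (η F) x t) = 0 := by
  obtain ⟨U, hU, s, rfl⟩ := exists_germ_eq F t
  rw [stalkMap_germ, stalkMap_germ, π_η_app, map_zero]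

lemma exists_stalkMap_η_eq (F : CohTop.Ab X) (x : X) (t : CohTop.stalk (G0 F) x) (h : stalkMap (π F) x t = 0) :
    ∃ r, stalkMap (η F) x r = t := by
  obtain ⟨U, hU, s, rfl⟩ := exists_germ_eq (G0 F) t
  rw [stalkMap_germ] at h
  obtain ⟨W, hW, r, hr⟩ := exists_η_of_π F hU s h
  exact ⟨germ F W x hW r, (stalkMap_germ _ W x hW r).trans hr.symm⟩

end Groth.Agent.Godement
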