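import Groth.Agent.Godement.Functor
import Groth.Agent.CohTopLib.Closed
import Mathlib.Topology.IsLocalHomeomorph

/-! # Stalks of the functorial Godement quotients -/

set_option autoImplicit false
set_option linter.style.haveILetI false

noncomputable section

universe u

open CategoryTheory CategoryTheory.Limits TopologicalSpace Opposite

namespace Groth.Agent.Godement

variable {X Y S : TopCat.{u}}

lemma germ_res (F : CohTop.Ab X) {U V : Opens X} (h : V ≤ U) (x : X) (hx : x ∈ V) (s : F.obj.obj (op U)) :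
    germ F V x hx (F.obj.map (homOfLE h).op s) = germ F U x (h hx) s :=
  TopCat.Presheaf.germ_res_apply F.obj (homOfLE h) x hx s

lemma app_res {F G : CohTop.Ab X} (m : F ⟶ G) {U V : Opens X} (h : V ≤ U) (s : F.obj.obj (op U)) :
    m.hom.app (op V) (F.obj.map (homOfLE h).op s) = G.obj.map (homOfLE h).op (m.hom.app (op U) s) :=
  ConcreteCategory.congr_hom (m.hom.naturality (homOfLE h).op) s

lemma exists_res_eq {F : CohTop.Ab X} {U V : Opens X} {x : X} (hU : x ∈ U) (hV : x ∈ V)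
    {s : F.obj.obj (op U)} {t : F.obj.obj (op V)} (h : germ F U x hU s = germ F V x hV t) :
    ∃ (W : Opens X) (_ : x ∈ W) (h₁ : W ≤ U) (h₂ : W ≤ V),
      F.obj.map (homOfLE h₁).op s = F.obj.map (homOfLE h₂).op t := by
  obtain ⟨W, hW, i, j, e⟩ := TopCat.Presheaf.germ_eq F.obj x hU hV s t h
  exact ⟨W, hW, i.le, j.le, e⟩

lemma exists_res_eq_zero {F : CohTop.Ab X} {U : Opens X} {x : X} (hU : x ∈ U)
    {s : F.obj.obj (op U)} (h : germ F U x hU s = 0) :
    ∃ (W : Opens X) (_ : x ∈ W) (h₁ : W ≤ U), F.obj.map (homOfLE h₁).op s = 0 := by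
  obtain ⟨W, hW, h₁, h₂, e⟩ := exists_res_eq hU hU (h.trans (map_zero (germ F U x hU)).symm)
  exact ⟨W, hW, h₁, e.trans (map_zero _)⟩

lemma germ_app_eq {F G : CohTop.Ab X} (m : F ⟶ G) {U V : Opens X} {x : X} (hU : x ∈ U) (hV : x ∈ V)
    {s : F.obj.obj (op U)} {t : F.obj.obj (op V)} (h : germ F U x hU s = germ F V x hV t) :
    germ G U x hU (m.hom.app (op U) s) = germ G V x hV (m.hom.app (op V) t) := by
  obtain ⟨W, hW, h₁, h₂, e⟩ := exists_res_eq hU hV h
  rw [← germ_res G h₁ x hW, ← germ_res G h₂ x hW, ← app_res, ← app_res, e]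

/-- the unit of the inverse image -/
def unitCoh (a : Y ⟶ S) (F : CohTop.Ab S) : Coh a F ((CohTop.pull a).obj F) := (adj a).unit.app F

/-- the unit of the inverse image, on stalks -/
theorem bijective_stalk_unit (a : Y ⟶ S) (F : CohTop.Ab S) (y : Y) :
    Function.Bijective ((unitCoh a F).stalk y) := by
  let P := (CohTop.pull a).obj F
  let u : Coh a F P := unitCoh a F
  let φ : P ⟶ QCohBase.piSheaf fun x : Y => TopCat.Presheaf.stalk F.obj (a x) :=
    ((adj a).homEquiv F _).symm (CohTopLib.toPushPi a F)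
  have hφ : u ≫ (CohTop.push a).map φ = CohTopLib.toPushPi a F :=
    ((adj a).homEquiv_unit _ _ _).symm.trans (((adj a).homEquiv _ _).apply_symm_apply _)
  have hwd : ∀ {U V : Opens Y} (hU : y ∈ U) (hV : y ∈ V) (s : P.obj.obj (op U)) (t : P.obj.obj (op V)),
      germ P U y hU s = germ P V y hV t → φ.hom.app (op U) s ⟨y, hU⟩ = φ.hom.app (op V) t ⟨y, hV⟩ := by
    intro U V hU hV s t h
    obtain ⟨W, hW, h₁, h₂, e⟩ := exists_res_eq hU hV h
    have := congrArg (fun z => φ.hom.app (op W) z) e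
    simp only [app_res] at this
    exact congrFun this ⟨y, hW⟩
  have key : ∀ (U : Opens S) (hU : a y ∈ U) (s : F.obj.obj (op U)),
      φ.hom.app (op ((Opens.map a).obj U)) (u.app U s) ⟨y, hU⟩ = germ F U (a y) hU s := fun U hU s =>
    congrFun (ConcreteCategory.congr_hom
      (congrArg (fun m : F ⟶ (CohTop.push a).obj _ => m.hom.app (op U)) hφ) s) ⟨y, hU⟩
  constructor
  · refine (injective_iff_map_eq_zero _).2 fun t ht => ?_
    obtain ⟨U, hU, s, rfl⟩ := exists_germ_eq F t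
    rw [Coh.stalk_germ _ U y hU] at ht
    rw [← key U hU s]
    refine (hwd hU hU _ 0 (ht.trans (map_zero _).symm)).trans ?_
    rw [map_zero]
    rfl
  · intro t
    obtain ⟨V, hV, s, rfl⟩ := exists_germ_eq P t
    refine ⟨φ.hom.app (op V) s ⟨y, hV⟩, ?_⟩
    let μ : (QCohBase.piSheaf fun x : Y => TopCat.Presheaf.stalk F.obj (a x)) ⟶ G0 P :=
      ⟨{ app := fun V => AddCommGrpCat.ofHom
          { toFun := fun s x => u.stalk x.1 (s x)
            map_zero' := funext fun _ => map_zero _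
            map_add' := fun _ _ => funext fun _ => map_add _ _ _ }
         naturality := fun _ _ _ => AddCommGrpCat.ext fun _ => rfl }⟩
    have h : φ ≫ μ = η P := by
      refine ((adj a).homEquiv F _).injective ?_
      rw [Adjunction.homEquiv_unit, Adjunction.homEquiv_unit]
      refine Coh.ext' (g := a) (F' := G0 P) fun U s => funext fun x => ?_
      refine Eq.trans ?_ (u.stalk_germ U x.1 x.2 s)
      exact congrArg (u.stalk x.1) (congrFun (ConcreteCategory.congr_hom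
        (congrArg (fun m : F ⟶ (CohTop.push a).obj _ => m.hom.app (op U)) hφ) s) x)
    exact congrFun (ConcreteCategory.congr_hom (congrArg (fun m : P ⟶ G0 P => m.hom.app (op V)) h) s) ⟨y, hV⟩

lemma bijective_coh_stalk (F : CohTop.Ab S) {a : X ⟶ S} {a' : Y ⟶ S} (g : Y ⟶ X) (h : g ≫ a = a') (y : Y) :
    Function.Bijective ((coh F g h).stalk y) := by
  subst h
  have h2 := bijective_stalk_unit (g ≫ a) F y
  have h1 := bijective_stalk_unit a F (g y)
  refine (Function.Bijective.of_comp_iff _ h1).1 ?_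
  have e : ((unitCoh a F).comp (coh F g rfl) : Coh (g ≫ a) F _) = unitCoh (g ≫ a) F := unit_cohOf F a g
  have e2 : ⇑((coh F g rfl).stalk y) ∘ ⇑((unitCoh a F).stalk (g y)) = ⇑((unitCoh (g ≫ a) F).stalk y) :=
    funext fun t => (Coh.stalk_comp _ _ y t).symm.trans (congrArg (fun m : Coh (g ≫ a) F _ => m.stalk y t) e)
  exact e2.symm ▸ h2

variable {F : CohTop.Ab X} {F' : CohTop.Ab Y} {g : Y ⟶ X}

lemma exists_η_of_π (F : CohTop.Ab X) {U : Opens X} {x : X} (hU : x ∈ U) (s : (G0 F).obj.obj (op U))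
    (h : germ (Q F) U x hU ((π F).hom.app (op U) s) = 0) :
    ∃ (W : Opens X) (hW : x ∈ W) (t : F.obj.obj (op W)),
      germ (G0 F) U x hU s = germ (G0 F) W x hW ((η F).hom.app (op W) t) := by
  obtain ⟨W, hW, hWU, e⟩ := exists_res_eq_zero hU h
  rw [← app_res] at e
  obtain ⟨t, ht⟩ := TopCat.Sheaf.sections_exact_of_left_exact (shortExact_step F).exact
    (shortExact_step F).mono_f _ e
  exact ⟨W, hW, t, (germ_res (G0 F) hWU x hW s).symm.trans (congrArg (germ (G0 F) W x hW) ht.symm)⟩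

lemma exists_π_germ (F : CohTop.Ab X) {x : X} (t : CohTop.stalk (Q F) x) :
    ∃ (U : Opens X) (hU : x ∈ U) (s : (G0 F).obj.obj (op U)), germ (Q F) U x hU ((π F).hom.app (op U) s) = t := by
  obtain ⟨V, hV, q, rfl⟩ := exists_germ_eq _ t
  obtain ⟨W, hWV, ⟨s, hs⟩, hxW⟩ := (TopCat.Presheaf.isLocallySurjective_iff _).mp
    ((CategoryTheory.Sheaf.isLocallySurjective_iff_epi' (φ := π F)).mpr inferInstance) V q x hV
  exact ⟨W, hxW, s, (congrArg (germ (Q F) W x hxW) hs).trans (TopCat.Presheaf.germ_res_apply _ _ _ _ _)⟩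

/-- bijectivity on stalks of `G0map` -/
theorem bijective_stalk_G0map (hg : IsLocalHomeomorph g) (φ : Coh g F F')
    (hφ : ∀ y, Function.Bijective (φ.stalk y)) (y : Y) : Function.Bijective ((G0map φ).stalk y) := by
  obtain ⟨e, hye, he⟩ := hg y
  constructor
  · refine (injective_iff_map_eq_zero _).2 fun t ht => ?_
    obtain ⟨U, hU, s, rfl⟩ := exists_germ_eq (G0 F) t
    rw [Coh.stalk_germ _ U y hU] at ht
    obtain ⟨W, hW, hWU, e0⟩ := exists_res_eq_zero _ ht
    let U' : Opens X := ⟨g '' W, hg.isOpenMap _ W.2⟩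
    have hU' : U' ≤ U := by rintro _ ⟨z, hz, rfl⟩; exact hWU hz
    rw [← germ_res (G0 F) hU' (g y) ⟨y, hW, rfl⟩ s]
    have : (G0 F).obj.map (homOfLE hU').op s = 0 := funext fun x => by
      obtain ⟨x, z, hz, rfl⟩ := x
      refine (hφ z).1 ?_
      refine Eq.trans ?_ (map_zero _).symm
      exact congrFun e0 ⟨z, hz⟩
    rw [this, map_zero]
  · intro t
    obtain ⟨V, hV, s, rfl⟩ := exists_germ_eq (G0 F') t
    let V' : Opens Y := V ⊓ ⟨e.source, e.open_source⟩
    have hV' : y ∈ V' := ⟨hV, hye⟩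
    let U : Opens X := ⟨g '' V', hg.isOpenMap _ V'.2⟩
    have hle : V' ≤ (Opens.map g).obj U := fun v hv => ⟨v, hv, rfl⟩
    have hex : ∀ x : U, ∃ w : CohTop.stalk F x.1, ∀ (v : Y) (hv : v ∈ V') (h : g v = x.1),
        φ.stalk v (h ▸ w) = s ⟨v, hv.1⟩ := by
      rintro ⟨_, v, hv, rfl⟩
      obtain ⟨w, hw⟩ := (hφ v).2 (s ⟨v, hv.1⟩)
      refine ⟨w, fun v' hv' h => ?_⟩
      obtain rfl : v' = v := e.injOn hv'.2 hv.2 (by rw [← he]; exact h)
      exact hw
    choose w hw using hex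
    refine ⟨germ (G0 F) U (g y) ⟨y, hV', rfl⟩ w, ?_⟩
    rw [Coh.stalk_germ _ U y ⟨y, hV', rfl⟩]
    rw [← germ_res (G0 F') hle y hV', ← germ_res (G0 F') (inf_le_left : V' ≤ V) y hV']
    exact congrArg (germ (G0 F') V' y hV') (funext fun v => hw ⟨g v.1, hle v.2⟩ v.1 v.2 rfl)

/-- bijectivity on stalks of `Qmap` -/
theorem bijective_stalk_Qmap (hg : IsLocalHomeomorph g) (φ : Coh g F F')
    (hφ : ∀ y, Function.Bijective (φ.stalk y)) (y : Y) : Function.Bijective ((Qmap φ).stalk y) := by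
  have hG := bijective_stalk_G0map hg φ hφ y
  constructor
  · refine (injective_iff_map_eq_zero _).2 fun t ht => ?_
    obtain ⟨U, hU, s, rfl⟩ := exists_π_germ F t
    rw [Coh.stalk_germ _ U y hU, π_Qmap_app] at ht
    obtain ⟨W, hW, b, hb⟩ := exists_η_of_π F' _ _ ht
    obtain ⟨c, hc⟩ := (hφ y).2 (germ F' W y hW b)
    obtain ⟨U₂, hU₂, c, rfl⟩ := exists_germ_eq F c
    rw [Coh.stalk_germ φ U₂ y hU₂] at hc
    have h1 : (G0map φ).stalk y (germ (G0 F) U (g y) hU s) =
        (G0map φ).stalk y (germ (G0 F) U₂ (g y) hU₂ ((η F).hom.app (op U₂) c)) := by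
      rw [Coh.stalk_germ _ U y hU, Coh.stalk_germ _ U₂ y hU₂, hb, ← germ_app_eq (η F') _ _ hc]
      exact congrArg (germ (G0 F') _ y _) (ConcreteCategory.congr_hom
        (congrArg (fun m : F ⟶ (CohTop.push g).obj (G0 F') => m.hom.app (op U₂)) (η_G0map φ)) c).symm
    rw [germ_app_eq (π F) hU hU₂ (hG.1 h1), π_η_app, map_zero]
  · intro t
    obtain ⟨V, hV, s, rfl⟩ := exists_π_germ F' t
    obtain ⟨r, hr⟩ := hG.2 (germ (G0 F') V y hV s)
    obtain ⟨U, hU, r, rfl⟩ := exists_germ_eq (G0 F) r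
    refine ⟨germ (Q F) U (g y) hU ((π F).hom.app (op U) r), ?_⟩
    rw [Coh.stalk_germ _ U y hU] at hr
    rw [Coh.stalk_germ _ U y hU, π_Qmap_app]
    exact germ_app_eq (π F') _ _ hr

theorem bijective_stalk_Qnmap (hg : IsLocalHomeomorph g) (φ : Coh g F F')
    (hφ : ∀ y, Function.Bijective (φ.stalk y)) : ∀ (n : ℕ) (y : Y), Function.Bijective ((Qnmap φ n).stalk y)
  | 0 => hφ
  | n + 1 => bijective_stalk_Qmap hg (Qnmap φ n) (bijective_stalk_Qnmap hg φ hφ n)

end Groth.Agent.Godement
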