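import Groth.Agent.Godement.Resolution
import Mathlib.CategoryTheory.Comma.Over.Basic

/-! # Inverse images as a system of sheaves over the spaces over a base -/

set_option autoImplicit false
set_option linter.style.haveILetI false

noncomputable section

universe u

open CategoryTheory CategoryTheory.Limits TopologicalSpace Opposite

namespace Groth.Agent.Godement

variable {S : TopCat.{u}} (F : CohTop.Ab S) {X Y Z : TopCat.{u}}

/-- the adjunction -/
abbrev adj (a : X ⟶ S) : CohTop.pull a ⊣ CohTop.push a :=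
  TopCat.Sheaf.pullbackPushforwardAdjunction AddCommGrpCat.{u} a

/-- the tautological morphism over `g` -/
def cohOf (a : X ⟶ S) (g : Y ⟶ X) : Coh g ((CohTop.pull a).obj F) ((CohTop.pull (g ≫ a)).obj F) :=
  ((adj a).homEquiv F ((CohTop.push g).obj ((CohTop.pull (g ≫ a)).obj F))).symm
    (((adj (g ≫ a)).unit.app F : F ⟶ (CohTop.push (g ≫ a)).obj ((CohTop.pull (g ≫ a)).obj F)) :)

lemma unit_cohOf (a : X ⟶ S) (g : Y ⟶ X) :
    (adj a).unit.app F ≫ (CohTop.push a).map (cohOf F a g) = (adj (g ≫ a)).unit.app F :=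
  ((adj a).homEquiv_unit _ _ _).symm.trans (((adj a).homEquiv _ _).apply_symm_apply _)

lemma coh_ext {a : X ⟶ S} {g : Y ⟶ X} {G : CohTop.Ab Y} (φ ψ : Coh g ((CohTop.pull a).obj F) G)
    (h : (adj a).unit.app F ≫ (CohTop.push a).map φ = (adj a).unit.app F ≫ (CohTop.push a).map ψ) :
    φ = ψ := by
  refine ((adj a).homEquiv F ((CohTop.push g).obj G)).injective ?_
  rw [Adjunction.homEquiv_unit, Adjunction.homEquiv_unit]
  exact h

/-- the morphism of inverse images over a map of spaces over `S` -/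
def coh {a : X ⟶ S} {a' : Y ⟶ S} (g : Y ⟶ X) (h : g ≫ a = a') :
    Coh g ((CohTop.pull a).obj F) ((CohTop.pull a').obj F) :=
  h ▸ cohOf F a g

lemma coh_id {a : X ⟶ S} (h : 𝟙 X ≫ a = a) : coh F (𝟙 X) h = Coh.id ((CohTop.pull a).obj F) := by
  refine coh_ext F _ _ ?_
  exact (unit_cohOf F a (𝟙 X)).trans
    ((Category.comp_id _).symm.trans (congrArg ((adj a).unit.app F ≫ ·) ((CohTop.push a).map_id _).symm))

lemma coh_comp {a : X ⟶ S} {a' : Y ⟶ S} {a'' : Z ⟶ S} (g : Y ⟶ X) (g' : Z ⟶ Y) (h : g ≫ a = a')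
    (h' : g' ≫ a' = a'') (h'' : (g' ≫ g) ≫ a = a'') :
    coh F (g' ≫ g) h'' = (coh F g h).comp (coh F g' h') := by
  subst h
  subst h'
  refine coh_ext F (a := a) (g := g' ≫ g) _ _ ?_
  refine (unit_cohOf F a (g' ≫ g)).trans ?_
  refine CategoryTheory.Sheaf.hom_ext (NatTrans.ext (funext fun U => AddCommGrpCat.ext fun s => ?_))
  have h1 := ConcreteCategory.congr_hom (congrArg (fun m : F ⟶ (CohTop.push (g ≫ a)).obj _ => m.hom.app U) (unit_cohOf F a g)) s
  have h2 := ConcreteCategory.congr_hom (congrArg (fun m : F ⟶ (CohTop.push (g' ≫ g ≫ a)).obj _ => m.hom.app U) (unit_cohOf F (g ≫ a) g')) s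
  exact (h2.symm.trans (congrArg ((cohOf F (g ≫ a) g').app _) h1.symm))

/-- The Godement complexes of the inverse images, as a presheaf on spaces over `S`. -/
def M₀ : (Over S)ᵒᵖ ⥤ CochainComplex AddCommGrpCat.{u} ℕ where
  obj P := cx ((CohTop.pull P.unop.hom).obj F)
  map g := cxMap (coh F g.unop.left (Over.w g.unop))
  map_id P := by
    rw [show coh F (𝟙 P : P ⟶ P).unop.left (Over.w _) = Coh.id _ from coh_id F _]
    exact cxMap_id _
  map_comp {P Q R} g g' := by
    rw [show coh F (g ≫ g').unop.left (Over.w _) =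
      (coh F g.unop.left (Over.w g.unop)).comp (coh F g'.unop.left (Over.w g'.unop)) from
      coh_comp F g.unop.left g'.unop.left _ _ _]
    exact cxMap_comp _ _

/-- The integral Godement complexes of the inverse images. -/
def M : (Over S)ᵒᵖ ⥤ CochainComplex AddCommGrpCat.{u} ℤ :=
  M₀ F ⋙ ComplexShape.embeddingUpNat.extendFunctor AddCommGrpCat.{u}

/-- the terms of the complexes in non negative degrees -/
def MEvalIso (n : ℕ) :
    M F ⋙ HomologicalComplex.eval _ (ComplexShape.up ℤ) (n : ℤ) ≅ M₀ F ⋙ HomologicalComplex.eval _ (ComplexShape.up ℕ) n :=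
  NatIso.ofComponents (fun P => HomologicalComplex.extendXIso _ ComplexShape.embeddingUpNat (i := n) rfl)
    fun {P Q} g => by
      show (HomologicalComplex.extendMap ((M₀ F).map g) ComplexShape.embeddingUpNat).f (n : ℤ) ≫ _ = _
      have h := HomologicalComplex.extendMap_f ((M₀ F).map g) ComplexShape.embeddingUpNat (i := n)
        (i' := (n : ℤ)) rfl
      refine (congrArg (· ≫ _) h).trans ?_
      refine (Category.assoc _ _ _).trans (congrArg (_ ≫ ·) ?_)
      exact ((Category.assoc _ _ _).trans (congrArg (_ ≫ ·) (Iso.inv_hom_id _))).trans (Category.comp_id _)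

lemma isStrictlyGE_M (P : (Over S)ᵒᵖ) : ((M F).obj P).IsStrictlyGE 0 := isStrictlyGE_cxZ _

theorem nonempty_homology_M_iso (P : (Over S)ᵒᵖ) (n : ℕ) :
    Nonempty (((M F).obj P).homology (n : ℤ) ≅ AddCommGrpCat.of (CohTop.H ((CohTop.pull P.unop.hom).obj F) n)) :=
  nonempty_homology_cxZ_iso _ n

/-- the inverse image along the identity -/
def pullIdIso : CohTop.pull (𝟙 S) ≅ 𝟭 (CohTop.Ab S) :=
  (adj (𝟙 S)).leftAdjointUniq
    (Adjunction.id.ofNatIsoRight (Iso.refl _ : 𝟭 (CohTop.Ab S) ≅ CohTop.push (𝟙 S)))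

theorem nonempty_homology_M_id_iso (n : ℕ) :
    Nonempty (((M F).obj (op (Over.mk (𝟙 S)))).homology (n : ℤ) ≅ AddCommGrpCat.of (CohTop.H F n)) :=
  ⟨(nonempty_homology_M_iso F _ n).some ≪≫
    ((Sheaf.functorH (Opens.grothendieckTopology S) n).mapIso (pullIdIso.app F))⟩

end Groth.Agent.Godement
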