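import Groth.Agent.Godement.Germs
import Groth.Agent.CohTopLib.Basic

/-! # Cohomology over opens as a quotient of sections of the Godement quotients, and pullback of classes -/

set_option autoImplicit false
set_option linter.style.haveILetI false

noncomputable section

universe u

open CategoryTheory CategoryTheory.Limits TopologicalSpace Opposite

namespace Groth.Agent.Godement

open CohTopLib

variable {X Z W : TopCat.{u}}

lemma res_res' (F : CohTop.Ab X) (n : ℕ) {U V V' : Opens X} (h : V ≤ U) (h' : V' ≤ V) (x : CohTop.HU F n U) :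
    CohTop.res F n h' (CohTop.res F n h x) = CohTop.res F n (h'.trans h) x :=
  (ConcreteCategory.congr_hom ((Sheaf.cohomologyPresheaf.{u} F n).map_comp (homOfLE h).op (homOfLE h').op) x).symm

lemma res_self' (F : CohTop.Ab X) (n : ℕ) {U : Opens X} (x : CohTop.HU F n U) :
    CohTop.res F n (le_refl U) x = x :=
  ConcreteCategory.congr_hom ((Sheaf.cohomologyPresheaf.{u} F n).map_id (op U)) x

/-- dimension shifting, naturally in the open -/
theorem exists_shift (F : CohTop.Ab X) : ∀ k n m : ℕ, n + k = m →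
    ∃ φ : ∀ U : Opens X, CohTop.HU (Qn F k) n U →+ CohTop.HU F m U,
      (∀ (U V : Opens X) (h : V ≤ U) (x : CohTop.HU (Qn F k) n U),
        φ V (CohTop.res (Qn F k) n h x) = CohTop.res F m h (φ U x)) ∧
      (1 ≤ n → ∀ U, Function.Bijective (φ U))
  | 0, n, m, h => by
    obtain rfl : n = m := by omega
    exact ⟨fun U => AddMonoidHom.id _, fun _ _ _ _ => rfl, fun _ _ => Function.bijective_id⟩
  | k + 1, n, m, h => by
    obtain ⟨φ, hnat, hbij⟩ := exists_shift F k (n + 1) m (by omega)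
    have hT := shortExact_step (Qn F k)
    refine ⟨fun U => (φ U).comp (huDelta hT n U), fun U V hVU x => ?_, fun hn U => ?_⟩
    · show φ V (huDelta hT n V _) = _
      exact (congrArg (φ V) (huDelta_res hT n hVU x).symm).trans (hnat U V hVU _)
    · obtain ⟨j, rfl⟩ : ∃ j, n = j + 1 := ⟨n - 1, by omega⟩
      exact (hbij (by omega) U).comp
        ⟨huDelta_injective hT (j + 1) U (subsingleton_HU_of_isFlasque (G0 (Qn F k)) U j),
          huDelta_surjective hT (j + 1) U (subsingleton_HU_of_isFlasque (G0 (Qn F k)) U (j + 1))⟩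

/-- the class of a section of a quotient -/
def cls (F : CohTop.Ab X) : ∀ (n : ℕ) (U : Opens X), (Qn F n).obj.obj (op U) →+ CohTop.HU F n U
  | 0, U => (hu0 F U).symm.toAddMonoidHom
  | n + 1, U => ((exists_shift F n 1 (n + 1) (by omega)).choose U).comp
      ((huDelta (shortExact_step (Qn F n)) 0 U).comp (hu0 (Qn F (n + 1)) U).symm.toAddMonoidHom)

lemma cls_res (F : CohTop.Ab X) (n : ℕ) {U V : Opens X} (h : V ≤ U) (q : (Qn F n).obj.obj (op U)) :
    cls F n V ((Qn F n).obj.map (homOfLE h).op q) = CohTop.res F n h (cls F n U q) := by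
  have key : ∀ (G : CohTop.Ab X) (s : G.obj.obj (op U)),
      (hu0 G V).symm (G.obj.map (homOfLE h).op s) = CohTop.res G 0 h ((hu0 G U).symm s) := fun G s => by
    apply (hu0 G V).injective
    rw [AddEquiv.apply_symm_apply, hu0_res, AddEquiv.apply_symm_apply]
  obtain _ | n := n
  · exact key F q
  · refine (congrArg ((exists_shift F n 1 (n + 1) (by omega)).choose V) ?_).trans
      ((exists_shift F n 1 (n + 1) (by omega)).choose_spec.1 U V h _)
    exact (congrArg (huDelta (shortExact_step (Qn F n)) 0 V) (key (Qn F (n + 1)) q)).trans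
      (huDelta_res (shortExact_step (Qn F n)) 0 h _).symm

lemma cls_surjective (F : CohTop.Ab X) (n : ℕ) (U : Opens X) : Function.Surjective (cls F n U) := by
  obtain _ | n := n
  · exact (hu0 F U).symm.surjective
  · exact (((exists_shift F n 1 (n + 1) (by omega)).choose_spec.2 le_rfl U).2).comp
      ((huDelta_surjective (shortExact_step (Qn F n)) 0 U (subsingleton_HU_of_isFlasque (G0 (Qn F n)) U 0)).comp
        (hu0 (Qn F (n + 1)) U).symm.surjective)

lemma cls_zero_eq_zero_iff (F : CohTop.Ab X) (U : Opens X) (q : (Qn F 0).obj.obj (op U)) :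
    cls F 0 U q = 0 ↔ q = 0 :=
  (hu0 F U).symm.map_eq_zero_iff

lemma cls_succ_eq_zero_iff (F : CohTop.Ab X) (n : ℕ) (U : Opens X) (q : (Qn F (n + 1)).obj.obj (op U)) :
    cls F (n + 1) U q = 0 ↔ ∃ t, (π (Qn F n)).hom.app (op U) t = q := by
  refine Iff.trans ?_ (huDelta_zero_iff (shortExact_step (Qn F n)) U q)
  have hi := ((exists_shift F n 1 (n + 1) (by omega)).choose_spec.2 le_rfl U).1
  exact ⟨fun h => hi (h.trans (map_zero _).symm),
    fun h => (congrArg ((exists_shift F n 1 (n + 1) (by omega)).choose U) h).trans (map_zero _)⟩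

lemma pre_mono (i : Z ⟶ X) {U V : Opens X} (h : V ≤ U) : (Opens.map i).obj V ≤ (Opens.map i).obj U :=
  fun _ hz => h hz

variable {F : CohTop.Ab X} {i : Z ⟶ X} {F' : CohTop.Ab Z} (φ : Coh i F F')

lemma Coh.app_res {i : Z ⟶ X} {F : CohTop.Ab X} {F' : CohTop.Ab Z} (φ : Coh i F F') {U V : Opens X} (h : V ≤ U)
    (s : F.obj.obj (op U)) :
    φ.app V (F.obj.map (homOfLE h).op s) =
      F'.obj.map (homOfLE (pre_mono i h)).op (φ.app U s) :=
  ConcreteCategory.congr_hom (φ.hom.naturality (homOfLE h).op) s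

lemma exists_pbH (n : ℕ) (U : Opens X) :
    (cls F n U).ker ≤ ((cls F' n ((Opens.map i).obj U)).comp ((Qnmap φ n).app U)).ker := fun q hq => by
  refine AddMonoidHom.mem_ker.2 ?_
  obtain _ | n := n
  · rw [(cls_zero_eq_zero_iff F U q).1 (AddMonoidHom.mem_ker.1 hq), map_zero]
  · obtain ⟨t, rfl⟩ := (cls_succ_eq_zero_iff F n U q).1 (AddMonoidHom.mem_ker.1 hq)
    exact (cls_succ_eq_zero_iff F' n _ _).2 ⟨_, (π_Qmap_app (Qnmap φ n) U t).symm⟩

/-- pullback of cohomology classes -/
def pbH (n : ℕ) (U : Opens X) : CohTop.HU F n U →+ CohTop.HU F' n ((Opens.map i).obj U) :=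
  AddMonoidHom.liftOfSurjective (cls F n U) (cls_surjective F n U) ⟨_, exists_pbH φ n U⟩

lemma pbH_cls (n : ℕ) (U : Opens X) (q : (Qn F n).obj.obj (op U)) :
    pbH φ n U (cls F n U q) = cls F' n _ ((Qnmap φ n).app U q) :=
  AddMonoidHom.liftOfRightInverse_comp_apply _ _ _ ⟨_, exists_pbH φ n U⟩ q

lemma pbH_res (n : ℕ) {U V : Opens X} (h : V ≤ U) (x : CohTop.HU F n U) :
    pbH φ n V (CohTop.res F n h x) =
      CohTop.res F' n (pre_mono i h) (pbH φ n U x) := by
  obtain ⟨q, rfl⟩ := cls_surjective F n U x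
  rw [pbH_cls, ← cls_res, ← cls_res, pbH_cls, Coh.app_res]

lemma pbH_comp {j : W ⟶ Z} {F'' : CohTop.Ab W} (ψ : Coh j F' F'') (n : ℕ) (U : Opens X) (x : CohTop.HU F n U) :
    pbH (φ.comp ψ) n U x = pbH ψ n ((Opens.map i).obj U) (pbH φ n U x) := by
  obtain ⟨q, rfl⟩ := cls_surjective F n U x
  refine (pbH_cls (φ.comp ψ) n U q).trans ?_
  rw [pbH_cls, pbH_cls, Qnmap_comp]
  exact congrArg (cls F'' n _) (Coh.comp_app _ _ U q)

end Groth.Agent.Godement
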