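import Groth.Prelude.Def_CohTop
import Groth.Agent.QCohBase.Cech

/-! # Godement sheaves and their functoriality along continuous maps -/

set_option autoImplicit false
set_option linter.style.haveILetI false

noncomputable section

universe u

open CategoryTheory CategoryTheory.Limits TopologicalSpace Opposite

namespace Groth.Agent.Godement

variable {X Y Z : TopCat.{u}}

/-- a morphism of sheaves over a continuous map -/
abbrev Coh (g : Y ⟶ X) (F : CohTop.Ab X) (F' : CohTop.Ab Y) : Type u := F ⟶ (CohTop.push g).obj F'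

/-- composition of morphisms over continuous maps -/
def Coh.comp {g : Y ⟶ X} {g' : Z ⟶ Y} {F : CohTop.Ab X} {F' : CohTop.Ab Y} {F'' : CohTop.Ab Z}
    (φ : Coh g F F') (ψ : Coh g' F' F'') : Coh (g' ≫ g) F F'' :=
  φ ≫ (CohTop.push g).map ψ

/-- the identity over the identity -/
def Coh.id (F : CohTop.Ab X) : Coh (𝟙 X) F F := (𝟙 F : F ⟶ F)

/-- the components of a morphism over a map -/
def Coh.app {g : Y ⟶ X} {F : CohTop.Ab X} {F' : CohTop.Ab Y} (φ : Coh g F F') (U : Opens X) :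
    F.obj.obj (op U) →+ F'.obj.obj (op ((Opens.map g).obj U)) :=
  (φ.hom.app (op U)).hom

lemma Coh.comp_app {g : Y ⟶ X} {g' : Z ⟶ Y} {F : CohTop.Ab X} {F' : CohTop.Ab Y} {F'' : CohTop.Ab Z}
    (φ : Coh g F F') (ψ : Coh g' F' F'') (U : Opens X) (s : F.obj.obj (op U)) :
    (φ.comp ψ).app U s = ψ.app ((Opens.map g).obj U) (φ.app U s) := rfl

lemma Coh.id_app (F : CohTop.Ab X) (U : Opens X) (s : F.obj.obj (op U)) : (Coh.id F).app U s = s := rfl

lemma Coh.ext' {g : Y ⟶ X} {F : CohTop.Ab X} {F' : CohTop.Ab Y} {φ ψ : Coh g F F'}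
    (h : ∀ (U : Opens X) (s : F.obj.obj (op U)), φ.app U s = ψ.app U s) : φ = ψ := by
  refine CategoryTheory.Sheaf.hom_ext (NatTrans.ext (funext fun U => ?_))
  exact AddCommGrpCat.ext fun s => h U.unop s

/-- the germ of a section of an abelian sheaf -/
abbrev germ (F : CohTop.Ab X) (U : Opens X) (x : X) (hx : x ∈ U) : F.obj.obj (op U) →+ CohTop.stalk F x :=
  (TopCat.Presheaf.germ F.obj U x hx).hom

lemma exists_germ_eq (F : CohTop.Ab X) {x : X} (t : CohTop.stalk F x) :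
    ∃ (U : Opens X) (hx : x ∈ U) (s : F.obj.obj (op U)), germ F U x hx s = t :=
  TopCat.Presheaf.exists_germ_eq F.obj t

/-- the action of a morphism over a map on stalks -/
def Coh.stalk {g : Y ⟶ X} {F : CohTop.Ab X} {F' : CohTop.Ab Y} (φ : Coh g F F') (y : Y) :
    CohTop.stalk F (g y) →+ CohTop.stalk F' y :=
  ((TopCat.Presheaf.stalkFunctor AddCommGrpCat.{u} (g y)).map φ.hom ≫
    TopCat.Presheaf.stalkPushforward AddCommGrpCat.{u} g F'.obj y).hom

lemma Coh.stalk_germ {g : Y ⟶ X} {F : CohTop.Ab X} {F' : CohTop.Ab Y} (φ : Coh g F F')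
    (U : Opens X) (y : Y) (hy : g y ∈ U) (s : F.obj.obj (op U)) :
    φ.stalk y (germ F U (g y) hy s) = germ F' ((Opens.map g).obj U) y hy (φ.app U s) := by
  refine (congrArg (TopCat.Presheaf.stalkPushforward AddCommGrpCat.{u} g F'.obj y)
    (TopCat.Presheaf.stalkFunctor_map_germ_apply U (g y) hy φ.hom s)).trans ?_
  exact ConcreteCategory.congr_hom (TopCat.Presheaf.stalkPushforward_germ AddCommGrpCat.{u} g F'.obj U y hy) _

lemma stalk_hom_ext {A : Type u} [AddCommGroup A] {F : CohTop.Ab X} {x : X}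
    {f f' : CohTop.stalk F x →+ A}
    (h : ∀ (U : Opens X) (hx : x ∈ U) (s : F.obj.obj (op U)), f (germ F U x hx s) = f' (germ F U x hx s)) :
    f = f' := by
  refine AddMonoidHom.ext fun t => ?_
  obtain ⟨U, hx, s, rfl⟩ := exists_germ_eq F t
  exact h U hx s

lemma Coh.stalk_comp {g : Y ⟶ X} {g' : Z ⟶ Y} {F : CohTop.Ab X} {F' : CohTop.Ab Y} {F'' : CohTop.Ab Z}
    (φ : Coh g F F') (ψ : Coh g' F' F'') (z : Z) (t : CohTop.stalk F (g (g' z))) :
    (φ.comp ψ).stalk z t = ψ.stalk z (φ.stalk (g' z) t) := by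
  obtain ⟨U, hx, s, rfl⟩ := exists_germ_eq F t
  rw [Coh.stalk_germ φ U (g' z) hx, Coh.stalk_germ ψ _ z hx]
  exact Coh.stalk_germ (φ.comp ψ) U z hx s

lemma Coh.stalk_id (F : CohTop.Ab X) (x : X) (t : CohTop.stalk F x) : (Coh.id F).stalk x t = t := by
  obtain ⟨U, hx, s, rfl⟩ := exists_germ_eq F t
  exact Coh.stalk_germ (Coh.id F) U x hx s

/-- the sheaf of families of germs -/
def G0 (F : CohTop.Ab X) : CohTop.Ab X := QCohBase.piSheaf fun x => TopCat.Presheaf.stalk F.obj x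

/-- the unit -/
def η (F : CohTop.Ab X) : F ⟶ G0 F := QCohBase.toGodement F

instance mono_η (F : CohTop.Ab X) : Mono (η F) := inferInstanceAs (Mono (QCohBase.toGodement F))

lemma η_app (F : CohTop.Ab X) (U : Opens X) (s : F.obj.obj (op U)) (x : U) :
    (η F).hom.app (op U) s x = germ F U x.1 x.2 s := rfl

instance isFlasque_G0 (F : CohTop.Ab X) : TopCat.Sheaf.IsFlasque (G0 F) := by
  classical
  refine ⟨fun {U V} i => (AddCommGrpCat.epi_iff_surjective _).2 fun s => ?_⟩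
  refine ⟨fun x => if h : x.1 ∈ V.unop then s ⟨x.1, h⟩ else 0, ?_⟩
  exact funext fun x => dif_pos x.2

/-- functoriality of `G0` -/
def G0map {g : Y ⟶ X} {F : CohTop.Ab X} {F' : CohTop.Ab Y} (φ : Coh g F F') : Coh g (G0 F) (G0 F') :=
  ⟨{ app := fun U => AddCommGrpCat.ofHom
      { toFun := fun s y => φ.stalk y.1 (s ⟨g y.1, y.2⟩)
        map_zero' := funext fun _ => map_zero _
        map_add' := fun _ _ => funext fun _ => map_add _ _ _ }
     naturality := fun _ _ _ => AddCommGrpCat.ext fun _ => rfl }⟩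

lemma G0map_app {g : Y ⟶ X} {F : CohTop.Ab X} {F' : CohTop.Ab Y} (φ : Coh g F F') (U : Opens X)
    (s : (G0 F).obj.obj (op U)) (y : ((Opens.map g).obj U : Opens Y)) :
    (G0map φ).app U s y = φ.stalk y.1 (s ⟨g y.1, y.2⟩) := rfl

lemma η_G0map {g : Y ⟶ X} {F : CohTop.Ab X} {F' : CohTop.Ab Y} (φ : Coh g F F') :
    η F ≫ G0map φ = φ ≫ (CohTop.push g).map (η F') := by
  refine Coh.ext' fun U s => funext fun y => ?_
  exact φ.stalk_germ U y.1 y.2 s

lemma G0map_id (F : CohTop.Ab X) : G0map (Coh.id F) = Coh.id (G0 F) :=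
  Coh.ext' fun _ s => funext fun y => Coh.stalk_id F y.1 (s ⟨y.1, y.2⟩)

lemma G0map_comp {g : Y ⟶ X} {g' : Z ⟶ Y} {F : CohTop.Ab X} {F' : CohTop.Ab Y} {F'' : CohTop.Ab Z}
    (φ : Coh g F F') (ψ : Coh g' F' F'') : G0map (φ.comp ψ) = (G0map φ).comp (G0map ψ) :=
  Coh.ext' fun _ s => funext fun z => Coh.stalk_comp φ ψ z.1 (s ⟨g (g' z.1), z.2⟩)

/-- the quotient by the sheaf -/
def Q (F : CohTop.Ab X) : CohTop.Ab X := cokernel (η F)

/-- the projection -/
def π (F : CohTop.Ab X) : G0 F ⟶ Q F := cokernel.π (η F)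

instance epi_π (F : CohTop.Ab X) : Epi (π F) := inferInstanceAs (Epi (cokernel.π (η F)))

lemma η_π (F : CohTop.Ab X) : η F ≫ π F = 0 := cokernel.condition _

/-- functoriality of the quotient -/
def Qmap {g : Y ⟶ X} {F : CohTop.Ab X} {F' : CohTop.Ab Y} (φ : Coh g F F') : Coh g (Q F) (Q F') :=
  cokernel.desc (η F) (G0map φ ≫ (CohTop.push g).map (π F')) (by
    rw [← Category.assoc, η_G0map, Category.assoc, ← Functor.map_comp, η_π, Functor.map_zero, comp_zero])

lemma π_Qmap {g : Y ⟶ X} {F : CohTop.Ab X} {F' : CohTop.Ab Y} (φ : Coh g F F') :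
    π F ≫ Qmap φ = G0map φ ≫ (CohTop.push g).map (π F') :=
  cokernel.π_desc _ _ _

lemma π_Qmap_app {g : Y ⟶ X} {F : CohTop.Ab X} {F' : CohTop.Ab Y} (φ : Coh g F F') (U : Opens X)
    (s : (G0 F).obj.obj (op U)) :
    (Qmap φ).app U ((π F).hom.app (op U) s) = (π F').hom.app _ ((G0map φ).app U s) :=
  ConcreteCategory.congr_hom
    (congrArg (fun m : G0 F ⟶ (CohTop.push g).obj (Q F') => m.hom.app (op U)) (π_Qmap φ)) s

lemma Qmap_id (F : CohTop.Ab X) : Qmap (Coh.id F) = Coh.id (Q F) := by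
  refine (cancel_epi (π F)).1 ?_
  rw [π_Qmap, G0map_id]
  exact CategoryTheory.Sheaf.hom_ext (NatTrans.ext (funext fun U => rfl))

lemma Qmap_comp {g : Y ⟶ X} {g' : Z ⟶ Y} {F : CohTop.Ab X} {F' : CohTop.Ab Y} {F'' : CohTop.Ab Z}
    (φ : Coh g F F') (ψ : Coh g' F' F'') : Qmap (φ.comp ψ) = (Qmap φ).comp (Qmap ψ) := by
  refine (cancel_epi (π F)).1 ?_
  rw [π_Qmap, G0map_comp]
  refine Coh.ext' (g := g' ≫ g) fun U s => ?_
  exact ((congrArg ((Qmap ψ).app _) (π_Qmap_app φ U s)).trans (π_Qmap_app ψ _ _)).symm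

end Groth.Agent.Godement
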