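import Groth.Agent.Godement.Basic
import Groth.Agent.CohTopLib.Compare
import Mathlib.Algebra.Homology.Embedding.ExtendHomology
import Mathlib.Algebra.Homology.Embedding.CochainComplex
import Mathlib.Algebra.Homology.ShortComplex.Ab

/-! # The complex of global sections of the Godement resolution -/

set_option autoImplicit false
set_option linter.style.haveILetI false

noncomputable section

universe u

open CategoryTheory CategoryTheory.Limits TopologicalSpace Opposite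

namespace Groth.Agent.Godement

variable {X Y Z : TopCat.{u}}

/-- the successive quotients -/
def Qn (F : CohTop.Ab X) : ℕ → CohTop.Ab X
  | 0 => F
  | n + 1 => Q (Qn F n)

/-- functoriality of the successive quotients -/
def Qnmap {g : Y ⟶ X} {F : CohTop.Ab X} {F' : CohTop.Ab Y} (φ : Coh g F F') :
    ∀ n, Coh g (Qn F n) (Qn F' n)
  | 0 => φ
  | n + 1 => Qmap (Qnmap φ n)

lemma Qnmap_id (F : CohTop.Ab X) : ∀ n, Qnmap (Coh.id F) n = Coh.id (Qn F n)
  | 0 => rfl
  | n + 1 => (congrArg Qmap (Qnmap_id F n)).trans (Qmap_id _)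

lemma Qnmap_comp {g : Y ⟶ X} {g' : Z ⟶ Y} {F : CohTop.Ab X} {F' : CohTop.Ab Y} {F'' : CohTop.Ab Z}
    (φ : Coh g F F') (ψ : Coh g' F' F'') : ∀ n, Qnmap (φ.comp ψ) n = (Qnmap φ n).comp (Qnmap ψ n)
  | 0 => rfl
  | n + 1 => (congrArg Qmap (Qnmap_comp φ ψ n)).trans (Qmap_comp _ _)

/-- global sections of the terms -/
abbrev ΓG (F : CohTop.Ab X) (n : ℕ) : AddCommGrpCat.{u} := (G0 (Qn F n)).obj.obj (op ⊤)

/-- the differential -/
def dG (F : CohTop.Ab X) (n : ℕ) : ΓG F n ⟶ ΓG F (n + 1) :=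
  (π (Qn F n)).hom.app (op ⊤) ≫ (η (Qn F (n + 1))).hom.app (op ⊤)

lemma π_η_app (F : CohTop.Ab X) (U : Opens X) (s : F.obj.obj (op U)) :
    (π F).hom.app (op U) ((η F).hom.app (op U) s) = 0 :=
  ConcreteCategory.congr_hom (congrArg (fun m : F ⟶ Q F => m.hom.app (op U)) (η_π F)) s

/-- the Godement complex of global sections -/
def cx (F : CohTop.Ab X) : CochainComplex AddCommGrpCat.{u} ℕ :=
  CochainComplex.of (ΓG F) (dG F) fun n => by
    ext s
    exact (congrArg ((η (Qn F (n + 2))).hom.app (op ⊤)) (π_η_app (Qn F (n + 1)) ⊤ _)).trans (map_zero _)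

lemma cx_d (F : CohTop.Ab X) (n : ℕ) : (cx F).d n (n + 1) = dG F n := CochainComplex.of_d _ _ _

/-- the maps of the Godement complexes -/
def cxMap {g : Y ⟶ X} {F : CohTop.Ab X} {F' : CohTop.Ab Y} (φ : Coh g F F') : cx F ⟶ cx F' where
  f n := (G0map (Qnmap φ n)).hom.app (op ⊤)
  comm' n m hnm := by
    obtain rfl : n + 1 = m := hnm
    rw [cx_d, cx_d]
    ext s
    refine Eq.trans ?_ (ConcreteCategory.congr_hom (congrArg
      (fun h : Qn F (n + 1) ⟶ (CohTop.push g).obj (G0 (Qn F' (n + 1))) => h.hom.app (op ⊤))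
      (η_G0map (Qnmap φ (n + 1)))) ((π (Qn F n)).hom.app (op ⊤) s)).symm
    exact congrArg ((η (Qn F' (n + 1))).hom.app (op ⊤)) (π_Qmap_app (Qnmap φ n) ⊤ s).symm

lemma cxMap_f {g : Y ⟶ X} {F : CohTop.Ab X} {F' : CohTop.Ab Y} (φ : Coh g F F') (n : ℕ) (s : ΓG F n) :
    (cxMap φ).f n s = (G0map (Qnmap φ n)).app ⊤ s := rfl

lemma cxMap_id (F : CohTop.Ab X) : cxMap (Coh.id F) = 𝟙 (cx F) := by
  ext n s
  refine (cxMap_f _ n s).trans ?_
  rw [Qnmap_id, G0map_id]
  rfl

lemma cxMap_comp {g : Y ⟶ X} {g' : Z ⟶ Y} {F : CohTop.Ab X} {F' : CohTop.Ab Y} {F'' : CohTop.Ab Z}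
    (φ : Coh g F F') (ψ : Coh g' F' F'') : cxMap (φ.comp ψ) = cxMap φ ≫ cxMap ψ := by
  ext n s
  refine (cxMap_f _ n s).trans ?_
  rw [Qnmap_comp, G0map_comp]
  rfl

open CohTopLib

lemma shortExact_step (F : CohTop.Ab X) : (ShortComplex.mk (η F) (π F) (η_π F)).ShortExact :=
  { exact := ShortComplex.exact_of_g_is_cokernel _ (cokernelIsCokernel _) }

lemma η_app_injective (F : CohTop.Ab X) (U : Opens X) : Function.Injective ((η F).hom.app (op U)) :=
  fun s t h => TopCat.Presheaf.section_ext F U s t fun x hx => congrFun h ⟨x, hx⟩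

lemma ker_dG (F : CohTop.Ab X) (n : ℕ) (s : ΓG F n) :
    dG F n s = 0 ↔ ∃ q, (η (Qn F n)).hom.app (op ⊤) q = s := by
  constructor
  · intro h
    refine TopCat.Sheaf.sections_exact_of_left_exact (shortExact_step (Qn F n)).exact
      (shortExact_step (Qn F n)).mono_f s (η_app_injective (Qn F (n + 1)) ⊤ ?_)
    exact h.trans (map_zero _).symm
  · rintro ⟨q, rfl⟩
    exact (congrArg ((η (Qn F (n + 1))).hom.app (op ⊤)) (π_η_app _ ⊤ q)).trans (map_zero _)

/-- sections of the quotient are the cycles -/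
def cycEquiv (F : CohTop.Ab X) (n : ℕ) :
    (Qn F n).obj.obj (op ⊤) ≃+ AddMonoidHom.ker (dG F n).hom :=
  AddEquiv.ofBijective (((η (Qn F n)).hom.app (op ⊤)).hom.codRestrict _ fun q => (ker_dG F n _).2 ⟨q, rfl⟩)
    ⟨fun _ _ h => η_app_injective _ ⊤ (congrArg Subtype.val h),
      fun s => by
        obtain ⟨q, hq⟩ := (ker_dG F n s.1).1 s.2
        exact ⟨q, Subtype.ext hq⟩⟩

lemma nonempty_shift_equiv (F : CohTop.Ab X) : ∀ (n k : ℕ),
    Nonempty (CohTop.HU (Qn F n) (k + 1) ⊤ ≃+ CohTop.HU F (k + n + 1) ⊤)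
  | 0, _ => ⟨AddEquiv.refl _⟩
  | n + 1, k => by
    obtain ⟨e⟩ := nonempty_shift_equiv F n (k + 1)
    have hT := shortExact_step (Qn F n)
    let d : CohTop.HU (Qn F (n + 1)) (k + 1) ⊤ ≃+ CohTop.HU (Qn F n) (k + 1 + 1) ⊤ :=
      AddEquiv.ofBijective (huDelta hT (k + 1) ⊤)
        ⟨huDelta_injective hT (k + 1) ⊤ (subsingleton_HU_of_isFlasque (G0 (Qn F n)) ⊤ k),
          huDelta_surjective hT (k + 1) ⊤ (subsingleton_HU_of_isFlasque (G0 (Qn F n)) ⊤ (k + 1))⟩
    exact ⟨d.trans (e.trans (by rw [show k + 1 + n + 1 = k + (n + 1) + 1 by omega]))⟩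

/-- The Godement complex computes the cohomology. -/
theorem nonempty_homology_cx_iso (F : CohTop.Ab X) (n : ℕ) :
    Nonempty ((cx F).homology n ≅ AddCommGrpCat.of (CohTop.H F n)) := by
  obtain _ | n := n
  · let S := (cx F).sc' 0 0 1
    have hg : S.g = dG F 0 := cx_d F 0
    have hr : S.abToCycles.range = ⊥ := by
      refine (AddSubgroup.eq_bot_iff_forall _).2 ?_
      rintro _ ⟨x, rfl⟩
      refine Subtype.ext ?_
      show S.f x = 0
      rw [show S.f = 0 from (cx F).shape 0 0 (by simp)]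
      rfl
    exact ⟨(cx F).homologyIsoSc' 0 0 1 (by simp) (by simp) ≪≫ S.abHomologyIso ≪≫ AddEquiv.toAddCommGrpIso
      ((((QuotientAddGroup.quotientAddEquivOfEq hr).trans (QuotientAddGroup.quotientBot)).trans
        (AddEquiv.addSubgroupCongr (show S.g.hom.ker = (dG F 0).hom.ker from congrArg (fun m : ΓG F 0 ⟶ ΓG F 1 => m.hom.ker) hg))).trans
        ((cycEquiv F 0).symm.trans ((hu0 F ⊤).symm.trans (hTopEquiv F 0).symm)))⟩
  · let S := (cx F).sc' n (n + 1) (n + 2)
    have hg : S.g = dG F (n + 1) := cx_d F (n + 1)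
    have hf : S.f = dG F n := cx_d F n
    have hT := shortExact_step (Qn F n)
    let c := AddEquiv.addSubgroupCongr (show S.g.hom.ker = (dG F (n + 1)).hom.ker from congrArg (fun m : ΓG F (n + 1) ⟶ ΓG F (n + 2) => m.hom.ker) hg)
    let ψ : S.g.hom.ker →+ CohTop.HU (Qn F n) 1 ⊤ :=
      (huDelta hT 0 ⊤).comp ((c.trans (cycEquiv F (n + 1)).symm).trans (hu0 (Qn F (n + 1)) ⊤).symm).toAddMonoidHom
    have hsurj : Function.Surjective ψ :=
      (huDelta_surjective hT 0 ⊤ (subsingleton_HU_of_isFlasque (G0 (Qn F n)) ⊤ 0)).comp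
        ((c.trans (cycEquiv F (n + 1)).symm).trans (hu0 (Qn F (n + 1)) ⊤).symm).surjective
    have hker : ψ.ker = S.abToCycles.range := by
      ext s
      rw [AddMonoidHom.mem_ker]
      refine (huDelta_zero_iff hT ⊤ ((cycEquiv F (n + 1)).symm (c s))).trans ?_
      constructor
      · rintro ⟨t, ht⟩
        refine ⟨t, Subtype.ext ?_⟩
        show S.f t = s.1
        rw [hf]
        refine (congrArg ((η (Qn F (n + 1))).hom.app (op ⊤)) ht).trans ?_
        exact congrArg Subtype.val ((cycEquiv F (n + 1)).apply_symm_apply (c s))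
      · rintro ⟨t, rfl⟩
        refine ⟨t, ?_⟩
        apply (cycEquiv F (n + 1)).injective
        rw [AddEquiv.apply_symm_apply]
        refine Subtype.ext ?_
        show (η (Qn F (n + 1))).hom.app (op ⊤) _ = S.f t
        rw [hf]
        rfl
    obtain ⟨e⟩ := nonempty_shift_equiv F n 0
    exact ⟨(cx F).homologyIsoSc' n (n + 1) (n + 2) (by simp) (by simp) ≪≫ S.abHomologyIso ≪≫
      AddEquiv.toAddCommGrpIso (((QuotientAddGroup.quotientAddEquivOfEq hker.symm).trans
        (QuotientAddGroup.quotientKerEquivOfSurjective ψ hsurj)).trans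
        (e.trans ((by rw [Nat.zero_add] : CohTop.HU F (0 + n + 1) ⊤ ≃+ CohTop.HU F (n + 1) ⊤).trans
          (hTopEquiv F (n + 1)).symm)))⟩

/-- the Godement complex indexed by integers -/
def cxZ (F : CohTop.Ab X) : CochainComplex AddCommGrpCat.{u} ℤ :=
  (cx F).extend ComplexShape.embeddingUpNat

lemma isStrictlyGE_cxZ (F : CohTop.Ab X) : (cxZ F).IsStrictlyGE 0 := by
  rw [CochainComplex.isStrictlyGE_iff]
  intro i hi
  exact HomologicalComplex.isZero_extend_X _ _ _ (fun n => by simp; omega)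

/-- The integral Godement complex computes the cohomology. -/
theorem nonempty_homology_cxZ_iso (F : CohTop.Ab X) (n : ℕ) :
    Nonempty ((cxZ F).homology (n : ℤ) ≅ AddCommGrpCat.of (CohTop.H F n)) :=
  ⟨(cx F).extendHomologyIso ComplexShape.embeddingUpNat (j := n) rfl ≪≫ (nonempty_homology_cx_iso F n).some⟩

/-- the maps of the integral Godement complexes -/
def cxZMap {g : Y ⟶ X} {F : CohTop.Ab X} {F' : CohTop.Ab Y} (φ : Coh g F F') : cxZ F ⟶ cxZ F' :=
  (ComplexShape.embeddingUpNat.extendFunctor AddCommGrpCat.{u}).map (cxMap φ)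

lemma cxZMap_id (F : CohTop.Ab X) : cxZMap (Coh.id F) = 𝟙 (cxZ F) := by
  rw [cxZMap, cxMap_id]
  exact CategoryTheory.Functor.map_id _ _

lemma cxZMap_comp {g : Y ⟶ X} {g' : Z ⟶ Y} {F : CohTop.Ab X} {F' : CohTop.Ab Y} {F'' : CohTop.Ab Z}
    (φ : Coh g F F') (ψ : Coh g' F' F'') : cxZMap (φ.comp ψ) = cxZMap φ ≫ cxZMap ψ := by
  rw [cxZMap, cxMap_comp]
  exact CategoryTheory.Functor.map_comp _ _ _

end Groth.Agent.Godement
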